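import Groth.Agent.EtCoh.K958.P2Proj
import Groth.Agent.EtCoh.K56.Defs

/-!
# NODE G of S18107: the charts of the projective plane over an affine base

`K958.P2Charts.p2 W : K56.T4.P2 (CohB1.ProjSpaceOver 2 (Spec W)) W`.
-/

set_option autoImplicit false
universe u

open CategoryTheory CategoryTheory.Limits AlgebraicGeometry Opposite
open Groth.Agent.Sga5

noncomputable section

namespace K958.P2Charts

variable (W : Type u) [CommRing W]

/-- the model `Proj W[x_0, x_1, x_2]` -/
def p2Proj : K56.T4.P2 (CohB1.ProjSpace 2 W) W where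
  U := P2Proj.U 2 W
  aff := P2Proj.isAffineOpen 2 W
  cov := P2Proj.cov 2 W
  w := P2Proj.w 2 W
  y := P2Proj.y 2 W
  y_self := P2Proj.y_self 2 W
  inter := P2Proj.inter 2 W
  mul := P2Proj.mul 2 W
  chart i := by
    have hf : (![P2Proj.y 2 W i (i + 1), P2Proj.y 2 W i (i + 2)] : Fin 2 → _) =
        fun j => P2Proj.y 2 W i ((![i + 1, i + 2] : Fin 2 → Fin 3) j) := by
      funext j
      fin_cases j <;> rfl
    rw [hf]
    fin_cases i
    · exact P2Proj.chart_bijective 2 W 0 _ (Equiv.refl _) (by decide)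
    · exact P2Proj.chart_bijective 2 W 1 _ (Equiv.swap 0 1) (by decide)
    · exact P2Proj.chart_bijective 2 W 2 _ (Equiv.refl _) (by decide)

variable {W}

/-- transport of the charts along an isomorphism -/
def ofIso {P P' : Scheme.{u}} (e : P' ≅ P) (D : K56.T4.P2 P W) : K56.T4.P2 P' W where
  U i := e.hom ⁻¹ᵁ D.U i
  aff i := (D.aff i).preimage_of_isIso e.hom
  cov x := D.cov (e.hom x)
  w := (e.hom.appTop).hom.comp D.w
  y i j := (e.hom.app (D.U i)).hom (D.y i j)
  y_self i := by rw [D.y_self, map_one]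
  inter i j := by
    rw [← Scheme.preimage_basicOpen, ← D.inter, Scheme.Hom.preimage_inf]
  mul i j l V hi hj := by
    let V' : P.Opens := e.inv ⁻¹ᵁ V
    have hV : V ≤ e.hom ⁻¹ᵁ V' := by
      have : e.hom ⁻¹ᵁ (e.inv ⁻¹ᵁ V) = V := by
        rw [← Scheme.Hom.comp_preimage, e.hom_inv_id]; rfl
      exact this.ge
    have hle (s : Fin 3) (hs : V ≤ e.hom ⁻¹ᵁ D.U s) : V' ≤ D.U s := by
      have h1 : V' ≤ e.inv ⁻¹ᵁ (e.hom ⁻¹ᵁ D.U s) := fun x hx => hs hx
      have h2 : e.inv ⁻¹ᵁ (e.hom ⁻¹ᵁ D.U s) = D.U s := by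
        rw [← Scheme.Hom.comp_preimage, e.inv_hom_id]; rfl
      exact h1.trans h2.le
    have key (s : Fin 3) (hs : V ≤ e.hom ⁻¹ᵁ D.U s) (a : Γ(P, D.U s)) :
        (P'.presheaf.map (homOfLE hs).op).hom ((e.hom.app (D.U s)).hom a) =
          (e.hom.appLE V' V hV).hom ((P.presheaf.map (homOfLE (hle s hs)).op).hom a) := by
      have h1 : e.hom.app (D.U s) ≫ P'.presheaf.map (homOfLE hs).op = e.hom.appLE (D.U s) V hs := rfl
      have h2 : P.presheaf.map (homOfLE (hle s hs)).op ≫ e.hom.appLE V' V hV = e.hom.appLE (D.U s) V hs :=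
        Scheme.Hom.map_appLE _ _ _
      exact congr($(h1.trans h2.symm).hom a)
    have h := congrArg (e.hom.appLE V' V hV).hom (D.mul i j l V' (hle i hi) (hle j hj))
    rw [map_mul] at h
    refine Eq.trans ?_ (h.trans ?_)
    · exact congrArg₂ (· * ·) (key i hi _) (key j hj _)
    · exact (key i hi _).symm
  chart i := by
    have h1 : Function.Bijective (e.hom.app (D.U i)).hom :=
      ConcreteCategory.bijective_of_isIso (e.hom.app (D.U i))
    have h2 : MvPolynomial.eval₂Hom ((P'.presheaf.map (homOfLE (le_top (a := e.hom ⁻¹ᵁ D.U i))).op).hom.comp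
        ((e.hom.appTop).hom.comp D.w))
        ![(e.hom.app (D.U i)).hom (D.y i (i + 1)), (e.hom.app (D.U i)).hom (D.y i (i + 2))] =
        (e.hom.app (D.U i)).hom.comp (MvPolynomial.eval₂Hom
          ((P.presheaf.map (homOfLE (le_top (a := D.U i))).op).hom.comp D.w) ![D.y i (i + 1), D.y i (i + 2)]) := by
      apply MvPolynomial.ringHom_ext
      · intro r
        simp only [RingHom.comp_apply, MvPolynomial.eval₂Hom_C]
        exact congr($(e.hom.naturality (homOfLE (le_top (a := D.U i))).op).hom (D.w r)).symm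
      · intro j
        simp only [RingHom.comp_apply, MvPolynomial.eval₂Hom_X']
        fin_cases j <;> rfl
    exact h2 ▸ h1.comp (D.chart i)

variable (W)

/-- NODE G: the charts of `P^2_W`. -/
def p2 : K56.T4.P2 (CohB1.ProjSpaceOver 2 (Spec (.of W))) W :=
  ofIso (Groth.Agent.CohqB.ProjBC.projSpaceOverIso 2 W) (p2Proj W)

/-- The constants come from the structure morphism. -/
theorem p2_w : (p2 W).w = ((CohB1.ProjSpaceOver.toBase 2 (Spec (.of W))).appTop).hom.comp
    (Scheme.ΓSpecIso (.of W)).inv.hom := by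
  have h := Groth.Agent.CohqB.ProjBC.projSpaceOverIso_hom_toSpec 2 W
  have h1 : (CohB1.ProjSpace.toSpec 2 W).appTop ≫ (Groth.Agent.CohqB.ProjBC.projSpaceOverIso 2 W).hom.appTop =
      (CohB1.ProjSpaceOver.toBase 2 (Spec (.of W))).appTop := by
    rw [← Scheme.Hom.comp_appTop, h]
  ext a
  exact congr($(h1).hom ((Scheme.ΓSpecIso (.of W)).inv.hom a))

end K958.P2Charts
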