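import Groth.Agent.EtCoh.K56.Defs

/-!
# NODE L of S18107: Laurent monomials on the torus of `P^2_W`
-/

set_option autoImplicit false
universe u

open CategoryTheory CategoryTheory.Limits AlgebraicGeometry Opposite

noncomputable section

namespace K958.Laurent

section alg

variable {W T : Type*} [CommRing W] [CommRing T] (c : W →+* T) (mon : ℤ × ℤ → T)

/-- Laurent polynomials -/
def L : (ℤ × ℤ →₀ W) →+ T where
  toFun f := f.sum fun m w => c w * mon m
  map_zero' := Finsupp.sum_zero_index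
  map_add' f g := Finsupp.sum_add_index' (by simp) (by intros; rw [map_add, add_mul])

theorem L_apply (f : ℤ × ℤ →₀ W) : L c mon f = f.sum fun m w => c w * mon m := rfl

theorem L_single (m : ℤ × ℤ) (w : W) : L c mon (Finsupp.single m w) = c w * mon m := by
  rw [L_apply, Finsupp.sum_single_index (by simp)]

theorem L_mapDomain {ι : Type*} (e : ι → ℤ × ℤ) (f : ι →₀ W) :
    L c mon (f.mapDomain e) = f.sum fun m w => c w * mon (e m) := by
  rw [L_apply, Finsupp.sum_mapDomain_index (by simp) (by intros; rw [map_add, add_mul])]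

variable (hmul : ∀ m m', mon (m + m') = mon m * mon m') (h0 : mon 0 = 1)

include hmul in
theorem L_shift (a : ℤ × ℤ) (f : ℤ × ℤ →₀ W) :
    L c mon (f.mapDomain (a + ·)) = mon a * L c mon f := by
  rw [L_mapDomain, L_apply, Finsupp.mul_sum]
  refine Finsupp.sum_congr fun m _ => ?_
  rw [hmul]; ring

/-- the lattice map of a chart -/
def e (α β : ℤ × ℤ) (s : Fin 2 →₀ ℕ) : ℤ × ℤ := s 0 • α + s 1 • β

include hmul h0 in
theorem mon_nsmul (n : ℕ) (a : ℤ × ℤ) : mon (n • a) = mon a ^ n := by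
  induction n with
  | zero => simp [h0]
  | succ n ih => rw [succ_nsmul, hmul, ih, pow_succ]

include hmul h0 in
theorem eval_eq (α β : ℤ × ℤ) {x y : T} (hx : x = mon α) (hy : y = mon β) (p : MvPolynomial (Fin 2) W) :
    MvPolynomial.eval₂Hom c ![x, y] p = L c mon ((AddMonoidAlgebra.coeff p).mapDomain (e α β)) := by
  rw [L_mapDomain]
  refine (Finsupp.sum_congr (f := AddMonoidAlgebra.coeff p)
    (g1 := fun (s : Fin 2 →₀ ℕ) a => c a * s.prod fun n e => ![x, y] n ^ e) (fun (s : Fin 2 →₀ ℕ) _ => ?_) : _)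
  rw [e, hmul, mon_nsmul mon hmul h0, mon_nsmul mon hmul h0, Finsupp.prod_fintype _ _ (by simp), Fin.prod_univ_two]
  simp [hx, hy]

theorem e_injective {α β : ℤ × ℤ} (h : α.1 * β.2 - α.2 * β.1 ≠ 0) : Function.Injective (e α β) := by
  intro s t hst
  have h1 : (s 0 : ℤ) * α.1 + s 1 * β.1 = t 0 * α.1 + t 1 * β.1 := by
    simpa [e] using congrArg Prod.fst hst
  have h2 : (s 0 : ℤ) * α.2 + s 1 * β.2 = t 0 * α.2 + t 1 * β.2 := by
    simpa [e] using congrArg Prod.snd hst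
  have h3 : ((s 0 : ℤ) - t 0) * (α.1 * β.2 - α.2 * β.1) = 0 := by linear_combination β.2 * h1 - β.1 * h2
  have h4 : ((s 1 : ℤ) - t 1) * (α.1 * β.2 - α.2 * β.1) = 0 := by linear_combination α.1 * h2 - α.2 * h1
  have h5 : (s 0 : ℤ) = t 0 := sub_eq_zero.mp ((mul_eq_zero.mp h3).resolve_right h)
  have h6 : (s 1 : ℤ) = t 1 := sub_eq_zero.mp ((mul_eq_zero.mp h4).resolve_right h)
  ext i
  fin_cases i
  · exact_mod_cast h5
  · exact_mod_cast h6

theorem mem_range_e {m : ℤ × ℤ} (h1 : 0 ≤ m.1) (h2 : 0 ≤ m.2) : m ∈ Set.range (e (1, 0) (0, 1)) := by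
  refine ⟨Finsupp.equivFunOnFinite.symm ![m.1.toNat, m.2.toNat], ?_⟩
  ext <;> simp [e, h1, h2]

/-- a bound for the exponents -/
theorem exists_bound (f : ℤ × ℤ →₀ W) : ∃ N : ℕ, ∀ m ∈ f.support, 0 ≤ (N : ℤ) + m.1 ∧ 0 ≤ (N : ℤ) + m.2 := by
  refine ⟨∑ m ∈ f.support, (m.1.natAbs + m.2.natAbs), fun m hm => ?_⟩
  have h : m.1.natAbs + m.2.natAbs ≤ ∑ m ∈ f.support, (m.1.natAbs + m.2.natAbs) :=
    Finset.single_le_sum (f := fun m : ℤ × ℤ => m.1.natAbs + m.2.natAbs) (fun _ _ => Nat.zero_le _) hm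
  constructor <;> omega

include hmul h0 in
theorem L_injective (hinj : Function.Injective (MvPolynomial.eval₂Hom c ![mon (1, 0), mon (0, 1)])) :
    Function.Injective (L c mon) := by
  refine (injective_iff_map_eq_zero _).mpr fun f hf => ?_
  obtain ⟨N, hN⟩ := exists_bound f
  let a : ℤ × ℤ := (N, N)
  have ha : Function.Injective (fun m : ℤ × ℤ => a + m) := add_right_injective a
  let f' := f.mapDomain (a + ·)
  have hf' : L c mon f' = 0 := by rw [L_shift c mon hmul, hf, mul_zero]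
  have hsupp : (↑f'.support : Set (ℤ × ℤ)) ⊆ Set.range (e (1, 0) (0, 1)) := by
    intro m hm
    have hm' : m ∈ f'.support := hm
    classical
    rw [Finsupp.mapDomain_support_of_injective ha] at hm'
    obtain ⟨m₀, hm₀, rfl⟩ := Finset.mem_image.mp hm'
    exact mem_range_e (hN m₀ hm₀).1 (hN m₀ hm₀).2
  have he := e_injective (α := (1, 0)) (β := (0, 1)) (by simp)
  let p : MvPolynomial (Fin 2) W := ⟨f'.comapDomain (e (1, 0) (0, 1)) he.injOn⟩
  have hp : MvPolynomial.eval₂Hom c ![mon (1, 0), mon (0, 1)] p = 0 := by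
    rw [eval_eq c mon hmul h0 (1, 0) (0, 1) rfl rfl, ← hf']
    congr 1
    exact Finsupp.mapDomain_comapDomain _ he f' hsupp
  have hp0 : p = 0 := hinj (hp.trans (map_zero _).symm)
  have h1 : f' = 0 := by
    rw [← Finsupp.mapDomain_comapDomain _ he f' hsupp]
    have : f'.comapDomain (e (1, 0) (0, 1)) he.injOn = 0 := congrArg AddMonoidAlgebra.coeff hp0
    rw [this, Finsupp.mapDomain_zero]
  exact Finsupp.mapDomain_injective ha (h1.trans Finsupp.mapDomain_zero.symm)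

include hmul h0 in
theorem L_surjective (hsurj : ∀ t : T, ∃ (n : ℕ) (p : MvPolynomial (Fin 2) W),
      mon (n, n) * t = MvPolynomial.eval₂Hom c ![mon (1, 0), mon (0, 1)] p) :
    Function.Surjective (L c mon) := by
  intro t
  obtain ⟨n, p, hp⟩ := hsurj t
  refine ⟨((AddMonoidAlgebra.coeff p).mapDomain (e (1, 0) (0, 1))).mapDomain (-((n : ℤ), (n : ℤ)) + ·), ?_⟩
  rw [L_shift c mon hmul, ← eval_eq c mon hmul h0 (1, 0) (0, 1) rfl rfl, ← hp, ← mul_assoc, ← hmul,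
    neg_add_cancel, h0, one_mul]

include hmul h0 in
/-- the support of an element coming from a chart -/
theorem supp_of_eval (hL : Function.Injective (L c mon)) (α β : ℤ × ℤ) {x y : T} (hx : x = mon α) (hy : y = mon β)
    (γ : ℤ × ℤ) (n : ℕ) (f : ℤ × ℤ →₀ W) (p : MvPolynomial (Fin 2) W)
    (h : MvPolynomial.eval₂Hom c ![x, y] p = mon γ ^ n * L c mon f) {m : ℤ × ℤ} (hm : m ∈ f.support) :
    ∃ s : Fin 2 →₀ ℕ, n • γ + m = s 0 • α + s 1 • β := by
  rw [← mon_nsmul mon hmul h0, ← L_shift c mon hmul, eval_eq c mon hmul h0 α β hx hy] at h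
  have h1 := hL h
  have h2 : n • γ + m ∈ (f.mapDomain (n • γ + ·)).support := by
    rw [Finsupp.mem_support_iff, Finsupp.mapDomain_apply (add_right_injective (n • γ))]
    exact Finsupp.mem_support_iff.mp hm
  rw [← h1] at h2
  classical
  obtain ⟨s, _, hs⟩ := Finset.mem_image.mp (Finsupp.mapDomain_support h2)
  exact ⟨s, hs.symm⟩

include hmul h0 in
theorem eval_injective (hL : Function.Injective (L c mon)) (α β : ℤ × ℤ) {x y : T} (hx : x = mon α) (hy : y = mon β)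
    (h : α.1 * β.2 - α.2 * β.1 ≠ 0) : Function.Injective (MvPolynomial.eval₂Hom c ![x, y]) := by
  intro p q hpq
  rw [eval_eq c mon hmul h0 α β hx hy, eval_eq c mon hmul h0 α β hx hy] at hpq
  have h1 := Finsupp.mapDomain_injective (e_injective h) (hL hpq)
  cases p; cases q
  exact congrArg AddMonoidAlgebra.ofCoeff h1

end alg

end K958.Laurent

namespace K56.T4.P2

open K958.Laurent

variable {P : Scheme.{u}} {W : Type u} [CommRing W] (D : P2 P W)

/-- the torus -/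
abbrev tor : P.Opens := D.U 0 ⊓ (D.U 1 ⊓ D.U 2)

theorem tor_le (i : Fin 3) : D.tor ≤ D.U i := by
  fin_cases i
  · exact inf_le_left
  · exact inf_le_right.trans inf_le_left
  · exact inf_le_right.trans inf_le_right

/-- restriction of functions -/
def rs {V V' : P.Opens} (h : V' ≤ V) : Γ(P, V) →+* Γ(P, V') := (P.presheaf.map (homOfLE h).op).hom

/-- `x_j / x_i` on the torus -/
def ty (i j : Fin 3) : Γ(P, D.tor) := rs (D.tor_le i) (D.y i j)

/-- constants -/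
def cw (V : P.Opens) : W →+* Γ(P, V) := (rs le_top).comp D.w

/-- the monomial `(x_1/x_0)^m.1 (x_2/x_0)^m.2` -/
def tmon (m : ℤ × ℤ) : Γ(P, D.tor) :=
  D.ty 0 1 ^ m.1.toNat * D.ty 1 0 ^ (-m.1).toNat * (D.ty 0 2 ^ m.2.toNat * D.ty 2 0 ^ (-m.2).toNat)

/-- the Laurent polynomials -/
def lau : (ℤ × ℤ →₀ W) →+ Γ(P, D.tor) where
  toFun f := f.sum fun m w => D.cw _ w * D.tmon m
  map_zero' := Finsupp.sum_zero_index
  map_add' f g := Finsupp.sum_add_index' (by simp) (by intros; rw [map_add, add_mul])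

/-! ### restriction maps -/

theorem rs_rs {V V' V'' : P.Opens} (h : V' ≤ V) (h' : V'' ≤ V') (a : Γ(P, V)) :
    rs h' (rs h a) = rs (h'.trans h) a := by
  have := P.presheaf.map_comp (homOfLE h).op (homOfLE h').op
  exact congr($(this).hom a).symm

theorem rs_refl {V : P.Opens} (h : V ≤ V) (a : Γ(P, V)) : rs h a = a := by
  exact congr($(P.presheaf.map_id (op V)).hom a)

theorem rs_cw {V V' : P.Opens} (h : V' ≤ V) (a : W) : rs h (D.cw V a) = D.cw V' a :=
  rs_rs _ _ _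

theorem rs_comp_cw {V V' : P.Opens} (h : V' ≤ V) : (rs h).comp (D.cw V) = D.cw V' :=
  RingHom.ext (D.rs_cw h)

/-! ### the units on the torus -/

theorem ty_mul (i j l : Fin 3) : D.ty i j * D.ty j l = D.ty i l :=
  D.mul i j l D.tor (D.tor_le i) (D.tor_le j)

theorem ty_self (i : Fin 3) : D.ty i i = 1 := by
  rw [ty, D.y_self, map_one]

/-- the unit `x_j / x_i` on the torus -/
def tu (i j : Fin 3) : (Γ(P, D.tor))ˣ where
  val := D.ty i j
  inv := D.ty j i
  val_inv := by rw [ty_mul, ty_self]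
  inv_val := by rw [ty_mul, ty_self]

theorem tu_mul (i j l : Fin 3) : D.tu i j * D.tu j l = D.tu i l := Units.ext (D.ty_mul i j l)

/-- the monomials as units -/
def tum (m : ℤ × ℤ) : (Γ(P, D.tor))ˣ := D.tu 0 1 ^ m.1 * D.tu 0 2 ^ m.2

theorem unit_zpow {R : Type*} [CommRing R] (a : Rˣ) (k : ℤ) :
    (a : R) ^ k.toNat * ((a⁻¹ : Rˣ) : R) ^ (-k).toNat = ((a ^ k : Rˣ) : R) := by
  obtain ⟨n, rfl | rfl⟩ := k.eq_nat_or_neg
  · simp
  · simp

theorem tmon_eq (m : ℤ × ℤ) : D.tmon m = D.tum m := by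
  rw [tum, Units.val_mul, ← unit_zpow, ← unit_zpow]
  rfl

theorem tum_add (m m' : ℤ × ℤ) : D.tum (m + m') = D.tum m * D.tum m' := by
  simp only [tum, Prod.fst_add, Prod.snd_add, zpow_add]
  exact mul_mul_mul_comm _ _ _ _

theorem tmon_add (m m' : ℤ × ℤ) : D.tmon (m + m') = D.tmon m * D.tmon m' := by
  rw [tmon_eq, tmon_eq, tmon_eq, tum_add, Units.val_mul]

theorem tmon_zero : D.tmon 0 = 1 := by simp [tmon]
theorem tmon_01 : D.tmon (1, 0) = D.ty 0 1 := by simp [tmon]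
theorem tmon_02 : D.tmon (0, 1) = D.ty 0 2 := by simp [tmon]
theorem tmon_10 : D.tmon (-1, 0) = D.ty 1 0 := by simp [tmon]
theorem tmon_20 : D.tmon (0, -1) = D.ty 2 0 := by simp [tmon]
theorem tmon_12 : D.tmon (-1, 1) = D.ty 1 2 := by simp [tmon, ty_mul]
theorem tmon_21 : D.tmon (1, -1) = D.ty 2 1 := by
  have h : D.tmon (1, -1) = D.ty 0 1 * D.ty 2 0 := by simp [tmon]
  rw [h, mul_comm, ty_mul]

/-- the exponents of the coordinates -/
def ve : Fin 3 → ℤ × ℤ := ![(0, 0), (1, 0), (0, 1)]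

theorem ty_eq (i j : Fin 3) : D.ty i j = D.tmon (ve j - ve i) := by
  fin_cases i <;> fin_cases j
  · exact (D.ty_self 0).trans D.tmon_zero.symm
  · exact D.tmon_01.symm
  · exact D.tmon_02.symm
  · exact D.tmon_10.symm
  · exact (D.ty_self 1).trans D.tmon_zero.symm
  · exact D.tmon_12.symm
  · exact D.tmon_20.symm
  · exact D.tmon_21.symm
  · exact (D.ty_self 2).trans D.tmon_zero.symm

/-! ### localization -/

theorem chart' (i : Fin 3) : Function.Bijective (MvPolynomial.eval₂Hom (D.cw (D.U i)) ![D.y i (i + 1), D.y i (i + 2)]) :=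
  D.chart i

theorem rs_eval (i : Fin 3) (p : MvPolynomial (Fin 2) W) :
    rs (D.tor_le i) (MvPolynomial.eval₂Hom (D.cw (D.U i)) ![D.y i (i + 1), D.y i (i + 2)] p) =
      MvPolynomial.eval₂Hom (D.cw D.tor) ![D.ty i (i + 1), D.ty i (i + 2)] p := by
  rw [MvPolynomial.map_eval₂Hom, rs_comp_cw]
  congr 2
  funext j
  fin_cases j <;> rfl

/-- fractions on a basic open subset of an affine open subset -/
theorem loc_surj {U V : P.Opens} (hU : IsAffineOpen U) (f : Γ(P, U)) (h : V ≤ U) (e : V = P.basicOpen f)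
    (g : Γ(P, V)) : ∃ (n : ℕ) (g' : Γ(P, U)), g * rs h f ^ n = rs h g' := by
  let _ := (P.presheaf.map (homOfLE h).op).hom.toAlgebra
  have := hU.isLocalization_of_eq_basicOpen f (homOfLE h) e
  exact IsLocalization.Away.surj f g

theorem loc_inj {U V : P.Opens} (hU : IsAffineOpen U) (f : Γ(P, U)) (h : V ≤ U) (e : V = P.basicOpen f)
    (g : Γ(P, U)) (hg : rs h g = 0) : ∃ n : ℕ, f ^ n * g = 0 := by
  let _ := (P.presheaf.map (homOfLE h).op).hom.toAlgebra
  have := hU.isLocalization_of_eq_basicOpen f (homOfLE h) e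
  obtain ⟨n, hn⟩ := IsLocalization.Away.exists_of_eq (S := Γ(P, V)) f (a := g) (b := 0) (hg.trans (map_zero _).symm)
  exact ⟨n, by rw [hn, mul_zero]⟩

theorem loc_unit {U V : P.Opens} (hU : IsAffineOpen U) (f : Γ(P, U)) (h : V ≤ U) (e : V = P.basicOpen f) :
    IsUnit (rs h f) := by
  let _ := (P.presheaf.map (homOfLE h).op).hom.toAlgebra
  have := hU.isLocalization_of_eq_basicOpen f (homOfLE h) e
  exact IsLocalization.Away.algebraMap_isUnit f

theorem tor_eq : D.tor = P.basicOpen (D.y 0 1 * D.y 0 2) := by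
  rw [Scheme.basicOpen_mul, ← D.inter, ← D.inter, ← inf_inf_distrib_left]

/-- restriction to the torus is injective on the chart `0` -/
theorem rs_inj0 : Function.Injective (rs (D.tor_le 0)) := by
  refine (injective_iff_map_eq_zero _).mpr fun g hg => ?_
  obtain ⟨n, hn⟩ := loc_inj (D.aff 0) _ (D.tor_le 0) D.tor_eq g hg
  obtain ⟨p, rfl⟩ := (D.chart' 0).2 g
  have h1 : MvPolynomial.eval₂Hom (D.cw (D.U 0)) ![D.y 0 (0 + 1), D.y 0 (0 + 2)]
      ((MvPolynomial.X 0 * MvPolynomial.X 1) ^ n * p) = 0 := by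
    rw [map_mul, map_pow, map_mul, MvPolynomial.eval₂Hom_X', MvPolynomial.eval₂Hom_X']
    exact hn
  have h2 := (D.chart' 0).1 (h1.trans (map_zero _).symm)
  have h3 : IsRegular ((MvPolynomial.X 0 * MvPolynomial.X 1 : MvPolynomial (Fin 2) W) ^ n) :=
    (MvPolynomial.isRegular_X.mul MvPolynomial.isRegular_X).pow n
  have h4 : p = 0 := h3.left (h2.trans (mul_zero _).symm)
  rw [h4, map_zero]

theorem lau_eq (f : ℤ × ℤ →₀ W) : D.lau f = L (D.cw D.tor) D.tmon f := rfl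

theorem eval0_eq : MvPolynomial.eval₂Hom (D.cw D.tor) ![D.tmon (1, 0), D.tmon (0, 1)] =
    MvPolynomial.eval₂Hom (D.cw D.tor) ![D.ty 0 (0 + 1), D.ty 0 (0 + 2)] := by
  rw [tmon_01, tmon_02]; rfl

theorem lau_injective : Function.Injective D.lau := by
  refine L_injective (D.cw D.tor) D.tmon D.tmon_add D.tmon_zero ?_
  rw [eval0_eq]
  intro p q hpq
  rw [← rs_eval, ← rs_eval] at hpq
  exact (D.chart' 0).1 (D.rs_inj0 hpq)

theorem lau_bijective : Function.Bijective D.lau := by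
  refine ⟨D.lau_injective, L_surjective (D.cw D.tor) D.tmon D.tmon_add D.tmon_zero fun t => ?_⟩
  obtain ⟨n, g, hg⟩ := loc_surj (D.aff 0) _ (D.tor_le 0) D.tor_eq t
  obtain ⟨p, rfl⟩ := (D.chart' 0).2 g
  refine ⟨n, p, ?_⟩
  rw [eval0_eq, ← rs_eval, ← hg, mul_comm]
  congr 1
  have h : ((n : ℤ), (n : ℤ)) = n • ((1, 0) + (0, 1) : ℤ × ℤ) := by simp
  rw [h, mon_nsmul D.tmon D.tmon_add D.tmon_zero, tmon_add, tmon_01, tmon_02, map_mul]
  rfl

/-! ### ranges -/

/-- `cone`: the support of a function on a chart minus a divisor -/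
theorem supp_of {i j : Fin 3} {V : P.Opens} (hV : V ≤ D.U i) (e : V = P.basicOpen (D.y i j)) (h : D.tor ≤ V)
    (f : ℤ × ℤ →₀ W) (g : Γ(P, V)) (hg : rs h g = D.lau f) {m : ℤ × ℤ} (hm : m ∈ f.support) :
    ∃ (n a b : ℕ), n • (ve j - ve i) + m = a • (ve (i + 1) - ve i) + b • (ve (i + 2) - ve i) := by
  obtain ⟨n, g', hn⟩ := loc_surj (D.aff i) _ hV e g
  obtain ⟨p, rfl⟩ := (D.chart' i).2 g'
  have h1 := congrArg (rs h) hn
  rw [map_mul, map_pow, rs_rs, rs_rs, rs_eval, hg] at h1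
  obtain ⟨s, hs⟩ := supp_of_eval (D.cw D.tor) D.tmon D.tmon_add D.tmon_zero D.lau_injective _ _
    (D.ty_eq i (i + 1)) (D.ty_eq i (i + 2)) (ve j - ve i) n f p
    (by rw [← h1, mul_comm, ← ty_eq]; rfl) hm
  exact ⟨n, s 0, s 1, hs⟩

theorem supp_of' (i : Fin 3) (f : ℤ × ℤ →₀ W) (g : Γ(P, D.U i)) (hg : rs (D.tor_le i) g = D.lau f)
    {m : ℤ × ℤ} (hm : m ∈ f.support) :
    ∃ (a b : ℕ), m = a • (ve (i + 1) - ve i) + b • (ve (i + 2) - ve i) := by
  obtain ⟨p, rfl⟩ := (D.chart' i).2 g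
  rw [rs_eval] at hg
  obtain ⟨s, hs⟩ := supp_of_eval (D.cw D.tor) D.tmon D.tmon_add D.tmon_zero D.lau_injective _ _
    (D.ty_eq i (i + 1)) (D.ty_eq i (i + 2)) 0 0 f p
    (by rw [hg, pow_zero, one_mul]; rfl) hm
  exact ⟨s 0, s 1, by simpa using hs⟩

theorem mem_range {V : P.Opens} (h : D.tor ≤ V) (f : ℤ × ℤ →₀ W)
    (H : ∀ m ∈ f.support, D.tmon m ∈ (rs h).range) : ∃ g, rs h g = D.lau f := by
  have : D.lau f ∈ (rs h).range := by
    refine Subring.sum_mem _ fun m hm => Subring.mul_mem _ ?_ (H m hm)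
    exact ⟨D.cw V _, D.rs_cw h _⟩
  exact this

theorem ty_mem {V : P.Opens} (h : D.tor ≤ V) (i j : Fin 3) (hV : V ≤ D.U i) : D.ty i j ∈ (rs h).range :=
  ⟨rs hV (D.y i j), rs_rs _ _ _⟩

theorem tmon_mem (S : Subring Γ(P, D.tor)) (m : ℤ × ℤ) (a b c : ℕ) (α β γ : ℤ × ℤ) (h : m = a • α + b • β + c • γ)
    (ha : D.tmon α ∈ S) (hb : D.tmon β ∈ S) (hc : D.tmon γ ∈ S) : D.tmon m ∈ S := by
  rw [h, tmon_add, tmon_add, mon_nsmul D.tmon D.tmon_add D.tmon_zero, mon_nsmul D.tmon D.tmon_add D.tmon_zero,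
    mon_nsmul D.tmon D.tmon_add D.tmon_zero]
  exact S.mul_mem (S.mul_mem (S.pow_mem ha _) (S.pow_mem hb _)) (S.pow_mem hc _)

theorem range_0 (f : ℤ × ℤ →₀ W) : (∃ g, rs (D.tor_le 0) g = D.lau f) ↔ ∀ m ∈ f.support, 0 ≤ m.1 ∧ 0 ≤ m.2 := by
  constructor
  · rintro ⟨g, hg⟩ m hm
    obtain ⟨a, b, h⟩ := D.supp_of' 0 f g hg hm
    have h1 : m = a • (1, 0) + b • (0, 1) := h
    rw [h1]
    simp
  · intro H
    refine D.mem_range _ f fun m hm => ?_
    obtain ⟨h1, h2⟩ := H m hm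
    refine D.tmon_mem _ m m.1.toNat m.2.toNat 0 (1, 0) (0, 1) (0, 1) (by ext <;> simp [h1, h2]) ?_ ?_ ?_
    · rw [tmon_01]; exact D.ty_mem _ 0 1 le_rfl
    · rw [tmon_02]; exact D.ty_mem _ 0 2 le_rfl
    · rw [tmon_02]; exact D.ty_mem _ 0 2 le_rfl

theorem range_1 (f : ℤ × ℤ →₀ W) : (∃ g, rs (D.tor_le 1) g = D.lau f) ↔ ∀ m ∈ f.support, 0 ≤ m.2 ∧ m.1 + m.2 ≤ 0 := by
  constructor
  · rintro ⟨g, hg⟩ m hm
    obtain ⟨a, b, h⟩ := D.supp_of' 1 f g hg hm
    have h1 : m = a • (-1, 1) + b • (-1, 0) := h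
    rw [h1]
    simp
  · intro H
    refine D.mem_range _ f fun m hm => ?_
    obtain ⟨h1, h2⟩ := H m hm
    refine D.tmon_mem _ m m.2.toNat (-(m.1 + m.2)).toNat 0 (-1, 1) (-1, 0) (-1, 0) (by
      have h3 : 0 ≤ -(m.1 + m.2) := by omega
      ext <;> simp [h1] <;> omega) ?_ ?_ ?_
    · rw [tmon_12]; exact D.ty_mem _ 1 2 le_rfl
    · rw [tmon_10]; exact D.ty_mem _ 1 0 le_rfl
    · rw [tmon_10]; exact D.ty_mem _ 1 0 le_rfl

theorem range_2 (f : ℤ × ℤ →₀ W) : (∃ g, rs (D.tor_le 2) g = D.lau f) ↔ ∀ m ∈ f.support, 0 ≤ m.1 ∧ m.1 + m.2 ≤ 0 := by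
  constructor
  · rintro ⟨g, hg⟩ m hm
    obtain ⟨a, b, h⟩ := D.supp_of' 2 f g hg hm
    have h1 : m = a • (0, -1) + b • (1, -1) := h
    rw [h1]
    simp
  · intro H
    refine D.mem_range _ f fun m hm => ?_
    obtain ⟨h1, h2⟩ := H m hm
    refine D.tmon_mem _ m m.1.toNat (-(m.1 + m.2)).toNat 0 (1, -1) (0, -1) (0, -1) (by
      ext <;> simp [h1] <;> omega) ?_ ?_ ?_
    · rw [tmon_21]; exact D.ty_mem _ 2 1 le_rfl
    · rw [tmon_20]; exact D.ty_mem _ 2 0 le_rfl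
    · rw [tmon_20]; exact D.ty_mem _ 2 0 le_rfl

theorem range_01 (h : D.tor ≤ D.U 0 ⊓ D.U 1) (f : ℤ × ℤ →₀ W) :
    (∃ g, rs h g = D.lau f) ↔ ∀ m ∈ f.support, 0 ≤ m.2 := by
  constructor
  · rintro ⟨g, hg⟩ m hm
    obtain ⟨n, a, b, h⟩ := D.supp_of (i := 0) (j := 1) inf_le_left (D.inter 0 1) h f g hg hm
    have h1 : n • (1, 0) + m = a • (1, 0) + b • (0, 1) := h
    have h2 := congrArg Prod.snd h1
    simp at h2
    omega
  · intro H
    refine D.mem_range _ f fun m hm => ?_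
    have h1 := H m hm
    refine D.tmon_mem _ m m.1.toNat (-m.1).toNat m.2.toNat (1, 0) (-1, 0) (0, 1) (by
      ext <;> simp [h1] <;> omega) ?_ ?_ ?_
    · rw [tmon_01]; exact D.ty_mem _ 0 1 inf_le_left
    · rw [tmon_10]; exact D.ty_mem _ 1 0 inf_le_right
    · rw [tmon_02]; exact D.ty_mem _ 0 2 inf_le_left

theorem range_02 (h : D.tor ≤ D.U 0 ⊓ D.U 2) (f : ℤ × ℤ →₀ W) :
    (∃ g, rs h g = D.lau f) ↔ ∀ m ∈ f.support, 0 ≤ m.1 := by
  constructor
  · rintro ⟨g, hg⟩ m hm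
    obtain ⟨n, a, b, h⟩ := D.supp_of (i := 0) (j := 2) inf_le_left (D.inter 0 2) h f g hg hm
    have h1 : n • (0, 1) + m = a • (1, 0) + b • (0, 1) := h
    have h2 := congrArg Prod.fst h1
    simp at h2
    omega
  · intro H
    refine D.mem_range _ f fun m hm => ?_
    have h1 := H m hm
    refine D.tmon_mem _ m m.2.toNat (-m.2).toNat m.1.toNat (0, 1) (0, -1) (1, 0) (by
      ext <;> simp [h1] <;> omega) ?_ ?_ ?_
    · rw [tmon_02]; exact D.ty_mem _ 0 2 inf_le_left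
    · rw [tmon_20]; exact D.ty_mem _ 2 0 inf_le_right
    · rw [tmon_01]; exact D.ty_mem _ 0 1 inf_le_left

theorem range_12 (h : D.tor ≤ D.U 1 ⊓ D.U 2) (f : ℤ × ℤ →₀ W) :
    (∃ g, rs h g = D.lau f) ↔ ∀ m ∈ f.support, m.1 + m.2 ≤ 0 := by
  constructor
  · rintro ⟨g, hg⟩ m hm
    obtain ⟨n, a, b, h⟩ := D.supp_of (i := 1) (j := 2) inf_le_left (D.inter 1 2) h f g hg hm
    have h1 : n • (-1, 1) + m = a • (-1, 1) + b • (-1, 0) := h
    have h2 := congrArg Prod.fst h1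
    have h3 := congrArg Prod.snd h1
    simp at h2 h3
    omega
  · intro H
    refine D.mem_range _ f fun m hm => ?_
    have h1 := H m hm
    refine D.tmon_mem _ m m.2.toNat (-m.2).toNat (-(m.1 + m.2)).toNat (-1, 1) (1, -1) (-1, 0) (by
      ext <;> simp <;> omega) ?_ ?_ ?_
    · rw [tmon_12]; exact D.ty_mem _ 1 2 inf_le_left
    · rw [tmon_21]; exact D.ty_mem _ 2 1 inf_le_right
    · rw [tmon_10]; exact D.ty_mem _ 1 0 inf_le_left

/-- restriction to the torus is injective -/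
theorem rs_inj (i : Fin 3) : Function.Injective (rs (D.tor_le i)) := by
  refine (injective_iff_map_eq_zero _).mpr fun g hg => ?_
  obtain ⟨p, rfl⟩ := (D.chart' i).2 g
  rw [rs_eval] at hg
  have h : (ve (i + 1) - ve i).1 * (ve (i + 2) - ve i).2 - (ve (i + 1) - ve i).2 * (ve (i + 2) - ve i).1 ≠ 0 := by
    fin_cases i <;> decide
  have h1 := eval_injective (D.cw D.tor) D.tmon D.tmon_add D.tmon_zero D.lau_injective _ _
    (D.ty_eq i (i + 1)) (D.ty_eq i (i + 2)) h (hg.trans (map_zero _).symm)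
  rw [h1, map_zero]

theorem rs_inj2 (i j : Fin 3) (h : D.tor ≤ D.U i ⊓ D.U j) : Function.Injective (rs h) := by
  refine (injective_iff_map_eq_zero _).mpr fun g hg => ?_
  obtain ⟨n, g', hn⟩ := loc_surj (D.aff i) (D.y i j) (V := D.U i ⊓ D.U j) inf_le_left (D.inter i j) g
  have h1 := congrArg (rs h) hn
  rw [map_mul, hg, zero_mul, rs_rs] at h1
  have h2 : g' = 0 := D.rs_inj i (h1.symm.trans (map_zero _).symm)
  rw [h2, map_zero] at hn
  have h3 := (loc_unit (D.aff i) (D.y i j) (V := D.U i ⊓ D.U j) inf_le_left (D.inter i j)).pow n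
  exact (h3.mul_left_eq_zero).mp hn

end K56.T4.P2
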