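import Groth.Agent.EtCoh.K593.Pack
import Groth.Agent.EtCoh.K961.Exist
import Groth.Agent.EtCoh.K56.Loc
import Mathlib.RingTheory.Smooth.Flat

/-!
# The basis of the node PACK of S18107
-/

set_option autoImplicit false

universe u

open CategoryTheory CategoryTheory.Limits AlgebraicGeometry Opposite
open K56.T4 K961 K593.T3

noncomputable section

namespace K958.Pack

variable {P X : Scheme.{u}} (r : X ⟶ P) {W : Type u} [CommRing W] (D : P2 P W) (p : ℕ)

/-- The constants on `V`. -/
abbrev cst (V : P.Etale) : W →+* Γ(V.left, ⊤) := V.hom.appTop.hom.comp D.w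

/-- The structure of an algebra over the constants. -/
abbrev algC (V : P.Etale) : Algebra W Γ(V.left, ⊤) := (cst D V).toAlgebra

/-- The structure of an algebra over the functions on `V`. -/
abbrev algRB (V : P.Etale) : Algebra Γ(V.left, ⊤) (RB r V) := (sb' r V).toAlgebra

/-- The structure of an algebra over the constants. -/
abbrev algCB (V : P.Etale) : Algebra W (RB r V) := ((sb' r V).comp (cst D V)).toAlgebra

theorem tower (V : P.Etale) :
    @IsScalarTower W Γ(V.left, ⊤) (RB r V) (algC D V).toSMul (algRB r V).toSMul (algCB r D V).toSMul :=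
  let _ := algC D V
  let _ := algRB r V
  let _ := algCB r D V
  IsScalarTower.of_algebraMap_eq' rfl

/-- `Γ(X ×_P V)` is a cover of `Γ(V)/p`, étale where `g` is invertible. -/
def IsCov (V : P.Etale) (g : Γ(V.left, ⊤)) : Prop :=
  @Cov p W Γ(V.left, ⊤) (RB r V) _ _ (algC D V) _ (algCB r D V) (algRB r V) g

/-- The basis: `V` affine over a chart, `Γ(X ×_P V)` a cover of `Γ(V)/p`. -/
def CBas (V : P.Etale) : Prop := IsAffine V.left ∧ ∃ (i : Fin 3) (_ : D.Ov i V) (g : Γ(V.left, ⊤)), IsCov r D p V g

/-- Smoothness over the constants. -/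
theorem smooth_cst (V : P.Etale) (hV : IsAffine V.left) (i : Fin 3) (h : D.Ov i V) :
    @Algebra.Smooth W _ Γ(V.left, ⊤) _ (algC D V) := by
  let _ := algC D V
  let _ : Algebra (MvPolynomial (Fin 2) W) Γ(V.left, ⊤) := (D.str i V h).toAlgebra
  have h1 : Algebra.Etale (MvPolynomial (Fin 2) W) Γ(V.left, ⊤) := D.etale_str i V h hV
  have h2 : IsScalarTower W (MvPolynomial (Fin 2) W) Γ(V.left, ⊤) :=
    IsScalarTower.of_algebraMap_eq fun w => (D.str_C i V h w).symm
  have h3 : Algebra.Smooth W (MvPolynomial (Fin 2) W) := { }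
  exact Algebra.Smooth.comp W (MvPolynomial (Fin 2) W) Γ(V.left, ⊤)

end K958.Pack
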