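import Groth.Agent.EtCoh.K958.PackS

/-!
# NODE PACK of S18107: the trace maps of a finite cover of the plane of level `N`
-/

set_option autoImplicit false

universe u

open CategoryTheory CategoryTheory.Limits AlgebraicGeometry Opposite
open KaehlerDifferential K611.Gam K611.Gam2 K611.Frame K611.Top K611.Sh K611.Seq K611.Seq2 K720.Sym K720.Tw K720.Nu K720.Lev1
open K56.T4 K961 K961.Inv

noncomputable section

namespace K958.Pack

open K593.T3

variable {P X : Scheme.{u}} {W : Type u} [CommRing W] {p N : ℕ} [hp : Fact p.Prime] {k : Type u} [Field k]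

attribute [local instance] algRB

/-- The data over an object of the basis. -/
structure Dat (r : X ⟶ P) (D : P2 P W) (B : WB p N k W) (V : P.Etale) where
  i : Fin 3
  h : D.Ov i V
  T : K56.T4.Tor p N Γ(V.left, ⊤)
  hT : D.IsT B i V h T
  g : Γ(V.left, ⊤)
  hc : IsCov r D p V g
  τ : Tn (RB r V) →+ Om2 Γ(V.left, ⊤)
  hτ : ∀ z, IsTau T (RB r V) z (τ z)
  TR : Om2 (RB r V) →+ Om2 Γ(V.left, ⊤)
  hTR : ∀ η, IsTr T (RB r V) η (TR η)
  p_TR : ∀ η, p • TR η = 0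
  τ_TR : ∀ z ω, IsTau T (RB r V) z ω → p ^ (N - 1) • ω = TR (sy z)
  lin : ∀ a η, TR (sb' r V a • η) = a • TR η
  nz : Nontrivial (RB r V) → TR ≠ 0

variable {r : X ⟶ P} {D : P2 P W} {B : WB p N k W}

theorem nonempty_dat (hN : 0 < N) (hB : B.HasTor) (V : P.Etale) (hV : CBas r D p V) : Nonempty (Dat r D B V) := by
  obtain ⟨ha, i, h, g, hc⟩ := hV
  obtain ⟨T, hT⟩ := P2.exists_isT hB i V h ha
  obtain ⟨τ, hτ⟩ := exists_τ hN ha h T hc
  obtain ⟨TR, h1, h2, h3, h4, h5⟩ := exists_TR' hN ha h T hc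
  exact ⟨⟨i, h, T, hT, g, hc, τ, hτ, TR, h1, h2, h3, h4, h5⟩⟩

namespace Dat

theorem τ_nat [IsAffineHom r] (hN : 0 < N) (hB : B.HasTor) {V V' : P.Etale} (d : Dat r D B V) (d' : Dat r D B V')
    (hV : IsAffine V.left) (hV' : IsAffine V'.left) (g : V' ⟶ V) (z : Tn (RB r V)) :
    d'.τ (tmap (rb r g) z) = omap2 g.left.appTop.hom (d.τ z) :=
  τ_unique hN hV' d'.h d'.hc (d'.hτ _) (Pack.τ_nat hN hB hV hV' d.hT d'.hT d.hc d'.hc g (d.hτ z))

theorem TR_nat [IsAffineHom r] (hN : 0 < N) (hB : B.HasTor) {V V' : P.Etale} (d : Dat r D B V) (d' : Dat r D B V')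
    (hV : IsAffine V.left) (hV' : IsAffine V'.left) (g : V' ⟶ V) (z : Om2 (RB r V)) :
    d'.TR (omap2 (rb r g) z) = omap2 g.left.appTop.hom (d.TR z) :=
  TR_unique hN hV' d'.h d'.hc (d'.hTR _) (Pack.TR_nat hN hB hV hV' d.hT d'.hT d.hc d'.hc g (d.hTR z))

theorem τ_S (hB : B.HasTor) {V : P.Etale} (d : Dat r D B V) (hV : IsAffine V.left) (z : Tn (RB r V)) :
    p • (D.S hB).hom.app (op V) (un Om2F V (d.τ z)) = p • un Om2F V (d.τ z) := by
  rw [P2.S_un hB V hV d.hT, P2.smul_un, P2.smul_un, IsTau.inv (d.hτ z)]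

theorem τ_ker [IsAffineHom r] {V : P.Etale} (d : Dat r D B V) (hV : IsAffine V.left) (h : (p : Γ(X, ⊤)) = 0)
    (n : ℕ) (hn : n ≤ N) (z : Tn (RB r V)) (hz : un (QnF (p ^ n)) ((EtCoh.bc r).obj V) (cm (A := TnF) z) = 0) :
    p ^ (N - n) • un Om2F V (d.τ z) = 0 := by
  have h1 : p ^ (N - n) • d.τ z = 0 := isTau_ker' h ((EtCoh.bc r).obj V) (isAffine_bc r hV) n hn hz (d.hτ z)
  exact (P2.smul_un V _ _).trans ((congrArg (un Om2F V) h1).trans (map_zero (un Om2F V)))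

theorem TR_S [IsAffineHom r] (hN : 0 < N) (hB : B.HasTor) {V : P.Etale} (d : Dat r D B V) (hV : IsAffine V.left)
    (h : (p : Γ(X, ⊤)) = 0) (ζ η : Om2 (RB r V))
    (hz : ap ((cl2N p).sh h) ((EtCoh.bc r).obj V) (un Om2F _ ζ) = ap ((gam2N p).sh h) ((EtCoh.bc r).obj V) (un Om2F _ η)) :
    (D.S hB).hom.app (op V) (un Om2F V (d.TR ζ)) = un Om2F V (d.TR η) := by
  rw [P2.S_un hB V hV d.hT]
  refine congrArg (un Om2F V) ?_
  exact TR_unique hN hV d.h d.hc (isTr_S' h ((EtCoh.bc r).obj V) (isAffine_bc r hV) hz (d.hTR ζ)) (d.hTR η)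

theorem TR_τ {V : P.Etale} (d : Dat r D B V) (z : Tn (RB r V)) :
    p ^ (N - 1) • un Om2F V (d.τ z) = un Om2F V (d.TR (sy z)) := by
  rw [P2.smul_un, d.τ_TR z _ (d.hτ z)]

theorem TR_p {V : P.Etale} (d : Dat r D B V) (η : Om2 (RB r V)) : p • un Om2F V (d.TR η) = 0 := by
  exact (P2.smul_un V _ _).trans ((congrArg (un Om2F V) (d.p_TR η)).trans (map_zero (un Om2F V)))

end Dat

/-- NODE PACK. -/
theorem exists_pack (hN : 0 < N) (hB : B.HasTor) [IsAffineHom r] (hbas : Base.IsBasis (CBas r D p))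
    (h : (p : Γ(X, ⊤)) = 0) :
    ∃ K : TrPack r p N h (sh Om2F P) (D.S hB), (∀ V, K.Bs V ↔ CBas r D p V) ∧
      ∀ V (hV : K.Bs V), ∃ TR₀ : Om2 (RB r V) →+ Om2 Γ(V.left, ⊤), (∀ η, K.TR V hV η = un Om2F V (TR₀ η)) ∧
        (∀ a η, TR₀ (sb' r V a • η) = a • TR₀ η) ∧ (Nontrivial (RB r V) → TR₀ ≠ 0) := by
  let d : ∀ V, CBas r D p V → Dat r D B V := fun V hV => (nonempty_dat hN hB V hV).some
  refine ⟨{
    Bs := CBas r D p
    bas := hbas
    aff := fun V hV => hV.1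
    τ := fun V hV => (un Om2F V).comp (d V hV).τ
    τ_nat := fun V V' hV hV' g z =>
      (congrArg (un Om2F V') ((d V hV).τ_nat hN hB (d V' hV') hV.1 hV'.1 g z)).trans (un_res Om2F g _)
    τ_S := fun V hV z => (d V hV).τ_S hB hV.1 z
    τ_ker := fun V hV n hn z hz => (d V hV).τ_ker hV.1 h n hn z hz
    TR := fun V hV => (un Om2F V).comp (d V hV).TR
    TR_nat := fun V V' hV hV' g z =>
      (congrArg (un Om2F V') ((d V hV).TR_nat hN hB (d V' hV') hV.1 hV'.1 g z)).trans (un_res Om2F g _)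
    TR_p := fun V hV η => (d V hV).TR_p η
    TR_τ := fun V hV z => (d V hV).TR_τ z
    TR_S := fun V hV ζ η hz => (d V hV).TR_S hN hB hV.1 h ζ η hz }, fun V => Iff.rfl,
    fun V hV => ⟨(d V hV).TR, fun η => rfl, (d V hV).lin, (d V hV).nz⟩⟩

end K958.Pack
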