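import Groth.Agent.Sga5.ProjChart
import Groth.Agent.CohqB.ProjBC

/-!
# The standard charts of projective space over a ring

For `P = CohB1.ProjSpace n R`: the opens `U i = D_+(X_i)`, the functions `y i j = X_j / X_i` on `U i`,
`U i ⊓ U j = P.basicOpen (y i j)`, `y i j * y j l = y i l`, `Γ(U i) = R[y i j]`.
-/

set_option autoImplicit false
universe u

open CategoryTheory CategoryTheory.Limits AlgebraicGeometry Opposite MvPolynomial
open Groth.Agent.Sga5

noncomputable section

namespace K958.P2Proj

variable (n : ℕ) (R : Type u) [CommRing R]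

/-- the standard chart -/
def U (i : Fin (n + 1)) : (CohB1.ProjSpace n R).Opens :=
  Proj.basicOpen (CohB1.polyGrading n R) (X i)

/-- the function `X_j / X_i` -/
def y (i j : Fin (n + 1)) : Γ(CohB1.ProjSpace n R, U n R i) :=
  (Proj.awayToSection (CohB1.polyGrading n R) (X i)).hom (ProjChart.coord n R i j)

/-- constants -/
def w : R →+* Γ(CohB1.ProjSpace n R, ⊤) :=
  ((CohB1.ProjSpace.toSpec n R).appTop).hom.comp (Scheme.ΓSpecIso (.of R)).inv.hom

theorem y_self (i : Fin (n + 1)) : y n R i i = 1 := by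
  unfold y
  rw [ProjChart.coord_self]
  exact map_one _

theorem isAffineOpen (i : Fin (n + 1)) : IsAffineOpen (U n R i) :=
  Proj.isAffineOpen_basicOpen (CohB1.polyGrading n R) (X i) (ProjChart.X_mem n R i) one_pos

theorem cov (x : CohB1.ProjSpace n R) : ∃ i, x ∈ U n R i := by
  have h := Proj.iSup_basicOpen_eq_top (CohB1.polyGrading n R)
    (X : Fin (n + 1) → MvPolynomial (Fin (n + 1)) R) (Groth.Agent.CohqB.ProjBC.span_X_ge n)
  have h' : x ∈ (⨆ i, Proj.basicOpen (CohB1.polyGrading n R) (X i : MvPolynomial (Fin (n + 1)) R) :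
      (Proj (CohB1.polyGrading n R)).Opens) := by
    rw [h]; trivial
  exact TopologicalSpace.Opens.mem_iSup.mp h'

/-- the function on `D_+(X_i X_j)` -/
theorem awayMap_coord (i j l : Fin (n + 1)) {x : MvPolynomial (Fin (n + 1)) R}
    (hx : x = X i * X j) :
    HomogeneousLocalization.awayMap (CohB1.polyGrading n R) (ProjChart.X_mem n R j) hx
      (ProjChart.coord n R i l) =
    HomogeneousLocalization.Away.mk (CohB1.polyGrading n R)
      (hx ▸ SetLike.mul_mem_graded (ProjChart.X_mem n R i) (ProjChart.X_mem n R j)) 1 (X l * X j)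
      (by
        have := SetLike.mul_mem_graded (ProjChart.X_mem n R l) (ProjChart.X_mem n R j)
        simpa using this) := by
  unfold ProjChart.coord
  rw [HomogeneousLocalization.awayMap_mk]
  congr 1
  rw [pow_one]

theorem awayMap_mul (i j l : Fin (n + 1)) {x : MvPolynomial (Fin (n + 1)) R}
    (hx : x = X i * X j) (hx' : x = X j * X i) :
    HomogeneousLocalization.awayMap (CohB1.polyGrading n R) (ProjChart.X_mem n R j) hx
      (ProjChart.coord n R i j) *
    HomogeneousLocalization.awayMap (CohB1.polyGrading n R) (ProjChart.X_mem n R i) hx'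
      (ProjChart.coord n R j l) =
    HomogeneousLocalization.awayMap (CohB1.polyGrading n R) (ProjChart.X_mem n R j) hx
      (ProjChart.coord n R i l) := by
  rw [awayMap_coord n R i j j hx, awayMap_coord n R j i l hx', awayMap_coord n R i j l hx]
  apply HomogeneousLocalization.val_injective
  rw [HomogeneousLocalization.val_mul, HomogeneousLocalization.Away.val_mk,
    HomogeneousLocalization.Away.val_mk, HomogeneousLocalization.Away.val_mk, Localization.mk_mul,
    Localization.mk_eq_mk_iff, Localization.r_iff_exists]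
  refine ⟨1, ?_⟩
  simp only [OneMemClass.coe_one, one_mul, Submonoid.coe_mul, pow_one]
  rw [hx]
  ring

theorem map_y (i j l : Fin (n + 1)) {x : MvPolynomial (Fin (n + 1)) R} (hx : x = X i * X j)
    (h : Proj.basicOpen (CohB1.polyGrading n R) x ≤ U n R i) :
    (CohB1.ProjSpace n R).presheaf.map (homOfLE h).op (y n R i l) =
      (Proj.awayToSection (CohB1.polyGrading n R) x).hom
        (HomogeneousLocalization.awayMap (CohB1.polyGrading n R) (ProjChart.X_mem n R j) hx
          (ProjChart.coord n R i l)) :=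
  (congr($(Proj.awayMap_awayToSection (CohB1.polyGrading n R) (ProjChart.X_mem n R j) hx).hom
    (ProjChart.coord n R i l))).symm

theorem inf_eq (i j : Fin (n + 1)) :
    U n R i ⊓ U n R j = Proj.basicOpen (CohB1.polyGrading n R) (X i * X j) :=
  (Proj.basicOpen_mul (CohB1.polyGrading n R) (X i) (X j)).symm

theorem mul (i j l : Fin (n + 1)) (V : (CohB1.ProjSpace n R).Opens) (hi : V ≤ U n R i) (hj : V ≤ U n R j) :
    (CohB1.ProjSpace n R).presheaf.map (homOfLE hi).op (y n R i j) *
      (CohB1.ProjSpace n R).presheaf.map (homOfLE hj).op (y n R j l) =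
    (CohB1.ProjSpace n R).presheaf.map (homOfLE hi).op (y n R i l) := by
  let x : MvPolynomial (Fin (n + 1)) R := X i * X j
  let W : (CohB1.ProjSpace n R).Opens := Proj.basicOpen (CohB1.polyGrading n R) x
  have hW : U n R i ⊓ U n R j = W := inf_eq n R i j
  have hVW : V ≤ W := hW ▸ le_inf hi hj
  have hWi : W ≤ U n R i := hW ▸ inf_le_left
  have hWj : W ≤ U n R j := hW ▸ inf_le_right
  have e1 := map_y n R i j j (x := x) rfl hWi
  have e2 := map_y n R j i l (x := x) (mul_comm _ _) hWj
  have e3 := map_y n R i j l (x := x) rfl hWi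
  have key : (CohB1.ProjSpace n R).presheaf.map (homOfLE hWi).op (y n R i j) *
      (CohB1.ProjSpace n R).presheaf.map (homOfLE hWj).op (y n R j l) =
      (CohB1.ProjSpace n R).presheaf.map (homOfLE hWi).op (y n R i l) := by
    refine (congrArg₂ (· * ·) e1 e2).trans (Eq.trans ?_ e3.symm)
    refine ((Proj.awayToSection (CohB1.polyGrading n R) x).hom.map_mul _ _).symm.trans ?_
    rw [awayMap_mul]
  have e := congrArg ((CohB1.ProjSpace n R).presheaf.map (homOfLE hVW).op) key
  rw [map_mul] at e
  have f (a : Γ(CohB1.ProjSpace n R, U n R i)) :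
      (CohB1.ProjSpace n R).presheaf.map (homOfLE hVW).op ((CohB1.ProjSpace n R).presheaf.map (homOfLE hWi).op a) =
      (CohB1.ProjSpace n R).presheaf.map (homOfLE hi).op a := by
    rw [← CategoryTheory.comp_apply, ← Functor.map_comp]; rfl
  have f' (a : Γ(CohB1.ProjSpace n R, U n R j)) :
      (CohB1.ProjSpace n R).presheaf.map (homOfLE hVW).op ((CohB1.ProjSpace n R).presheaf.map (homOfLE hWj).op a) =
      (CohB1.ProjSpace n R).presheaf.map (homOfLE hj).op a := by
    rw [← CategoryTheory.comp_apply, ← Functor.map_comp]; rfl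
  rwa [f, f', f] at e

/-! ### The chart map -/

/-- the chart `Spec (Away X_i) ⟶ P` -/
def ch (i : Fin (n + 1)) : Spec (.of (ProjChart.Chart n R i)) ⟶ CohB1.ProjSpace n R :=
  Proj.awayι (CohB1.polyGrading n R) (X i) (ProjChart.X_mem n R i) one_pos

instance (i : Fin (n + 1)) : IsOpenImmersion (ch n R i) :=
  inferInstanceAs (IsOpenImmersion (Proj.awayι (CohB1.polyGrading n R) (X i) (ProjChart.X_mem n R i) one_pos))

theorem opensRange_ch (i : Fin (n + 1)) : (ch n R i).opensRange = U n R i :=
  Proj.opensRange_awayι _ _ _ _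

theorem le_ch (i : Fin (n + 1)) :
    (⊤ : (Spec (.of (ProjChart.Chart n R i))).Opens) ≤ (ch n R i) ⁻¹ᵁ (U n R i) := by
  rw [← opensRange_ch, Scheme.Hom.preimage_opensRange]

theorem awayToSection_ch (i : Fin (n + 1)) :
    (show CommRingCat.of (ProjChart.Chart n R i) ⟶ Γ(CohB1.ProjSpace n R, U n R i) from
      Proj.awayToSection (CohB1.polyGrading n R) (X i)) ≫ (ch n R i).appLE (U n R i) ⊤ (le_ch n R i) =
      (Scheme.ΓSpecIso (CommRingCat.of (ProjChart.Chart n R i))).inv := by
  let 𝒜 := CohB1.polyGrading n R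
  let f : MvPolynomial (Fin (n + 1)) R := X i
  let f_deg := ProjChart.X_mem n R i
  let hm : 0 < 1 := one_pos
  let e := Proj.basicOpenIsoSpec 𝒜 f f_deg hm
  have h1 : e.hom.app ⊤ = _ := Proj.basicOpenToSpec_app_top 𝒜 f
  have h3 : (Proj.awayι 𝒜 f f_deg hm).appLE (Proj.basicOpen 𝒜 f) ⊤
      (by rw [← Proj.opensRange_awayι 𝒜 f f_deg hm, Scheme.Hom.preimage_opensRange]) =
      (Proj.basicOpen 𝒜 f).topIso.inv ≫ e.inv.appTop := by
    have h4 := Scheme.Hom.appLE_comp_appLE e.inv (Proj.basicOpen 𝒜 f).ι
      (Proj.basicOpen 𝒜 f) ⊤ ⊤ (by rw [Scheme.Opens.ι_preimage_self]) le_top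
    refine h4.symm.trans ?_
    congr 1
  have h5 : Proj.awayToSection 𝒜 f ≫ (Proj.basicOpen 𝒜 f).topIso.inv =
      (Scheme.ΓSpecIso (CommRingCat.of (HomogeneousLocalization.Away 𝒜 f))).inv ≫ e.hom.appTop := by
    rw [Iso.eq_inv_comp]
    exact h1.symm
  refine (congrArg (_ ≫ ·) h3).trans ?_
  refine (Category.assoc _ _ _).symm.trans ?_
  refine (congrArg (· ≫ _) h5).trans ?_
  rw [Category.assoc, ← Scheme.Hom.comp_appTop, Iso.inv_hom_id]
  exact Category.comp_id _

theorem appLE_y (i j : Fin (n + 1)) :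
    ((ch n R i).appLE (U n R i) ⊤ (le_ch n R i)).hom (y n R i j) =
      (Scheme.ΓSpecIso (CommRingCat.of (ProjChart.Chart n R i))).inv.hom (ProjChart.coord n R i j) :=
  congr($(awayToSection_ch n R i).hom (ProjChart.coord n R i j))

theorem eq_of_preimage {A B : Scheme.{u}} (f : A ⟶ B) [IsOpenImmersion f] {V V' : B.Opens}
    (h : V ≤ f.opensRange) (h' : V' ≤ f.opensRange) (e : f ⁻¹ᵁ V = f ⁻¹ᵁ V') : V = V' := by
  have h1 := f.image_preimage_eq_opensRange_inf V
  have h2 := f.image_preimage_eq_opensRange_inf V'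
  rw [inf_eq_right.mpr h] at h1
  rw [inf_eq_right.mpr h'] at h2
  rw [← h1, ← h2, e]

theorem inter (i j : Fin (n + 1)) :
    U n R i ⊓ U n R j = (CohB1.ProjSpace n R).basicOpen (y n R i j) := by
  apply eq_of_preimage (ch n R i)
  · rw [opensRange_ch]; exact inf_le_left
  · rw [opensRange_ch]; exact Scheme.basicOpen_le _ _
  · have h1 : (ch n R i) ⁻¹ᵁ (U n R i) = ⊤ := top_le_iff.mp (le_ch n R i)
    have h2 : (ch n R i) ⁻¹ᵁ (U n R j) = PrimeSpectrum.basicOpen
        (HomogeneousLocalization.Away.isLocalizationElem (ProjChart.X_mem n R i) (ProjChart.X_mem n R j)) :=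
      Proj.awayι_preimage_basicOpen (CohB1.polyGrading n R) (ProjChart.X_mem n R i) one_pos
        (ProjChart.X_mem n R j) one_pos
    have h3 : HomogeneousLocalization.Away.isLocalizationElem (ProjChart.X_mem n R i) (ProjChart.X_mem n R j) =
        ProjChart.coord n R i j := by
      unfold ProjChart.coord HomogeneousLocalization.Away.isLocalizationElem
      congr 1
      rw [pow_one]
    have h4 : (ch n R i) ⁻¹ᵁ ((CohB1.ProjSpace n R).basicOpen (y n R i j)) =
        (Spec (.of (ProjChart.Chart n R i))).basicOpen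
          (((ch n R i).appLE (U n R i) ⊤ (le_ch n R i)).hom (y n R i j)) := by
      rw [Scheme.basicOpen_appLE, top_inf_eq]
    have h5 : (ch n R i) ⁻¹ᵁ (U n R j) = (Spec (.of (ProjChart.Chart n R i))).basicOpen
        ((Scheme.ΓSpecIso (CommRingCat.of (ProjChart.Chart n R i))).inv.hom (ProjChart.coord n R i j)) := by
      refine h2.trans ?_
      rw [h3]
      exact (basicOpen_eq_of_affine (R := .of (ProjChart.Chart n R i)) (ProjChart.coord n R i j)).symm
    rw [Scheme.Hom.preimage_inf, h1, h5, h4, appLE_y, top_inf_eq]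

/-- restriction of a constant to a chart -/
def wU (i : Fin (n + 1)) : R →+* Γ(CohB1.ProjSpace n R, U n R i) :=
  ((CohB1.ProjSpace n R).presheaf.map (homOfLE (le_top (a := U n R i))).op).hom.comp (w n R)

theorem ch_toSpec (i : Fin (n + 1)) : ch n R i ≫ CohB1.ProjSpace.toSpec n R =
    Spec.map (CommRingCat.ofHom (ProjChart.chartC n R i)) :=
  Groth.Agent.CohqB.ProjBC.chartι_toSpec n i

theorem appLE_wU (i : Fin (n + 1)) (r : R) :
    ((ch n R i).appLE (U n R i) ⊤ (le_ch n R i)).hom (wU n R i r) =
      (Scheme.ΓSpecIso (CommRingCat.of (ProjChart.Chart n R i))).inv.hom (ProjChart.chartC n R i r) := by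
  have h1 : (CohB1.ProjSpace n R).presheaf.map (homOfLE (le_top (a := U n R i))).op ≫
      (ch n R i).appLE (U n R i) ⊤ (le_ch n R i) = (ch n R i).appTop := by
    rw [Scheme.Hom.map_appLE]
    exact Scheme.Hom.appLE_eq_app (ch n R i)
  have h2 : (CohB1.ProjSpace.toSpec n R).appTop ≫ (ch n R i).appTop =
      (Spec.map (CommRingCat.ofHom (ProjChart.chartC n R i))).appTop := by
    rw [← Scheme.Hom.comp_appTop, ch_toSpec]
  have h3 : (Scheme.ΓSpecIso (.of R)).inv ≫ (Spec.map (CommRingCat.ofHom (ProjChart.chartC n R i))).appTop =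
      CommRingCat.ofHom (ProjChart.chartC n R i) ≫ (Scheme.ΓSpecIso _).inv :=
    (Scheme.ΓSpecIso_inv_naturality _).symm
  have h4 := congr($(h3).hom r)
  have h5 := congr($(h2).hom ((Scheme.ΓSpecIso (.of R)).inv.hom r))
  have h6 := congr($(h1).hom (w n R r))
  exact h6.trans (h5.trans h4)

theorem appLE_bijective (i : Fin (n + 1)) :
    Function.Bijective ((ch n R i).appLE (U n R i) ⊤ (le_ch n R i)).hom := by
  have h := awayToSection_ch n R i
  have h1 : Function.Bijective (Proj.awayToSection (CohB1.polyGrading n R) (X i)).hom := by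
    have h2 : IsIso (Proj.awayToSection (CohB1.polyGrading n R) (X i : MvPolynomial (Fin (n + 1)) R)) := by
      rw [← Proj.basicOpenIsoAway_hom (CohB1.polyGrading n R) (X i) (ProjChart.X_mem n R i) Nat.one_pos]
      infer_instance
    exact ConcreteCategory.bijective_of_isIso (Proj.awayToSection (CohB1.polyGrading n R) (X i))
  have h3 : Function.Bijective (Scheme.ΓSpecIso (CommRingCat.of (ProjChart.Chart n R i))).inv.hom :=
    ConcreteCategory.bijective_of_isIso (Scheme.ΓSpecIso (CommRingCat.of (ProjChart.Chart n R i))).inv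
  have h4 : (((ch n R i).appLE (U n R i) ⊤ (le_ch n R i)).hom : _ → _) ∘
      ((Proj.awayToSection (CohB1.polyGrading n R) (X i)).hom : _ → _) =
      ((Scheme.ΓSpecIso (CommRingCat.of (ProjChart.Chart n R i))).inv.hom : _ → _) := by
    funext a
    exact congr($(h).hom a)
  exact (Function.Bijective.of_comp_iff _ h1).mp (h4 ▸ h3)

/-- the chart as polynomial ring, coordinates indexed by `σ : Fin n ≃ _` -/
theorem chart_bijective (i : Fin (n + 1)) (v : Fin n → Fin (n + 1)) (e : Fin n ≃ Fin n)
    (hv : ∀ j, v j = i.succAbove (e j)) :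
    Function.Bijective (MvPolynomial.eval₂Hom (wU n R i) (fun j => y n R i (v j))) := by
  have h1 := appLE_bijective n R i
  have h3 : Function.Bijective (Scheme.ΓSpecIso (CommRingCat.of (ProjChart.Chart n R i))).inv.hom :=
    ConcreteCategory.bijective_of_isIso (Scheme.ΓSpecIso (CommRingCat.of (ProjChart.Chart n R i))).inv
  have h4 : ((ch n R i).appLE (U n R i) ⊤ (le_ch n R i)).hom.comp
      (MvPolynomial.eval₂Hom (wU n R i) (fun j => y n R i (v j))) =
      ((Scheme.ΓSpecIso (CommRingCat.of (ProjChart.Chart n R i))).inv.hom.comp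
        (ProjChart.chartEquiv n R i).toRingHom).comp
          (MvPolynomial.rename e : MvPolynomial (Fin n) R →ₐ[R] MvPolynomial (Fin n) R).toRingHom := by
    apply MvPolynomial.ringHom_ext
    · intro r
      simp only [RingHom.comp_apply, MvPolynomial.eval₂Hom_C]
      rw [appLE_wU]
      refine congrArg _ ?_
      refine (ProjChart.chartEquiv_C n R i r).symm.trans ?_
      refine congrArg (ProjChart.chartEquiv n R i) ?_
      exact (MvPolynomial.rename_C e r).symm
    · intro j
      simp only [RingHom.comp_apply, MvPolynomial.eval₂Hom_X']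
      rw [appLE_y, hv]
      refine congrArg _ ?_
      refine (ProjChart.chartEquiv_X n R i (e j)).symm.trans ?_
      refine congrArg (ProjChart.chartEquiv n R i) ?_
      exact (MvPolynomial.rename_X e j).symm
  have h5 : Function.Bijective ((((Scheme.ΓSpecIso (CommRingCat.of (ProjChart.Chart n R i))).inv.hom.comp
        (ProjChart.chartEquiv n R i).toRingHom).comp
          (MvPolynomial.rename e : MvPolynomial (Fin n) R →ₐ[R] MvPolynomial (Fin n) R).toRingHom)) := by
    refine (h3.comp (ProjChart.chartEquiv n R i).bijective).comp ?_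
    exact (MvPolynomial.renameEquiv R e).bijective
  rw [← h4] at h5
  exact (Function.Bijective.of_comp_iff' h1 _).mp h5

end K958.P2Proj
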