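import Groth.Agent.EtCoh.K593.Pack
import Groth.Agent.EtCoh.K56.ShS
import Groth.Agent.EtCoh.K961.Key
import Groth.Agent.EtCoh.K103.TorEt

/-!
# Geometric part of NODE PACK of S18107

* `etale_appTop`: morphisms between affine étale objects are étale on rings;
* `isPushout_rb`: base change of the rings `RB r V` along `V' ⟶ V`;
* `cpt_of_isT`: compatibility of the toric structures over the same chart of the plane;
* `omap2_injective`: two-forms inject into a localization at a nonzerodivisor.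
-/

set_option autoImplicit false

universe u

open CategoryTheory CategoryTheory.Limits AlgebraicGeometry Opposite
open KaehlerDifferential K611.Gam K611.Gam2 K611.Frame K611.Top K611.Sh K611.Seq K611.Seq2 K720.Sym K720.Tw K720.Nu K720.Lev1
open K56.T4 K961 K961.Inv

noncomputable section

namespace K958.Pack

open K593.T3

section geo

variable {P X : Scheme.{u}} (r : X ⟶ P)

theorem etale_appTop {V V' : P.Etale} (hV : IsAffine V.left) (hV' : IsAffine V'.left) (g : V' ⟶ V) :
    g.left.appTop.hom.Etale := by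
  have h : AlgebraicGeometry.Etale g.left := inferInstance
  have h1 : IsAffine ((𝟭 Scheme.{u}).obj V.left) := hV
  exact HasRingHomProperty.appTop (P := @AlgebraicGeometry.Etale) g.left h

theorem isPullback_aux {P X V V' Q Q' : Scheme.{u}} {v : V ⟶ P} {v' : V' ⟶ P} {r : X ⟶ P} {g : V' ⟶ V}
    (e3 : g ≫ v = v') {f : Q ⟶ V} {s : Q ⟶ X} (h1 : IsPullback s f r v) {f' : Q' ⟶ V'} {s' : Q' ⟶ X}
    (h2 : IsPullback s' f' r v') {m : Q' ⟶ Q} (e1 : m ≫ s = s') (e2 : m ≫ f = f' ≫ g) : IsPullback m f' f g := by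
  subst e3 e1
  exact IsPullback.of_right h2 e2 h1

theorem appTop_aux {V V' Q Q' : Scheme.{u}} {g : V' ⟶ V} {f : Q ⟶ V} {f' : Q' ⟶ V'} {m : Q' ⟶ Q}
    (e2 : m ≫ f = f' ≫ g) : m.appTop.hom.comp f.appTop.hom = f'.appTop.hom.comp g.appTop.hom := by
  have h := congrArg (fun k : Q' ⟶ V => k.appTop) e2
  simp only [Scheme.Hom.comp_appTop] at h
  exact congrArg CommRingCat.Hom.hom h

theorem isPullback_bc {V V' : P.Etale} (g : V' ⟶ V) :
    IsPullback ((EtCoh.bc r).map g).left (pullback.fst V'.hom r) (pullback.fst V.hom r) g.left := by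
  have h1 : IsPullback (pullback.snd V.hom r) (pullback.fst V.hom r) r V.hom := (IsPullback.of_hasPullback V.hom r).flip
  have h2 : IsPullback (pullback.snd V'.hom r) (pullback.fst V'.hom r) r V'.hom := (IsPullback.of_hasPullback V'.hom r).flip
  have e1 : ((EtCoh.bc r).map g).left ≫ pullback.snd V.hom r = pullback.snd V'.hom r := pullback.lift_snd _ _ _
  have e2 : ((EtCoh.bc r).map g).left ≫ pullback.fst V.hom r = pullback.fst V'.hom r ≫ g.left := pullback.lift_fst _ _ _
  have e3 : g.left ≫ V.hom = V'.hom := MorphismProperty.Over.w g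
  exact isPullback_aux e3 h1 h2 e1 e2

theorem isAffine_bc [IsAffineHom r] {V : P.Etale} (hV : IsAffine V.left) : IsAffine ((EtCoh.bc r).obj V).left := by
  have : IsAffine ((𝟭 Scheme.{u}).obj V.left) := hV
  exact (inferInstance : IsAffine (pullback V.hom r))

theorem isPushout_rb [IsAffineHom r] {V V' : P.Etale} (hV : IsAffine V.left) (hV' : IsAffine V'.left) (g : V' ⟶ V) :
    IsPushout (CommRingCat.ofHom g.left.appTop.hom) (CommRingCat.ofHom (sb' r V))
      (CommRingCat.ofHom (sb' r V')) (CommRingCat.ofHom (rb r g)) := by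
  have := isAffine_bc r hV
  have : IsAffine ((𝟭 Scheme.{u}).obj V.left) := hV
  have : IsAffine ((𝟭 Scheme.{u}).obj V'.left) := hV'
  exact isPushout_appTop_of_isPullback (isPullback_bc r g).flip

theorem rb_sb {V V' : P.Etale} (g : V' ⟶ V) : (rb r g).comp (sb' r V) = (sb' r V').comp g.left.appTop.hom := by
  have e2 : ((EtCoh.bc r).map g).left ≫ pullback.fst V.hom r = pullback.fst V'.hom r ≫ g.left := pullback.lift_fst _ _ _
  exact appTop_aux e2

end geo

section tor

variable {P : Scheme.{u}} {W : Type u} [CommRing W] {D : P2 P W} {p n : ℕ} {k : Type u} [Field k] {B : WB p n k W}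

theorem cpt_of_isT {i : Fin 3} {V V' : P.Etale} {h : D.Ov i V} {h' : D.Ov i V'} {T : Tor p n Γ(V.left, ⊤)}
    {T' : Tor p n Γ(V'.left, ⊤)} (hT : D.IsT B i V h T) (hT' : D.IsT B i V' h' T') (hV : IsAffine V.left)
    (g : V' ⟶ V) : Cpt T T' g.left.appTop.hom where
  x l := by
    fin_cases l
    · change g.left.appTop (T.fr.x 0) = T'.fr.x 0
      rw [hT.x0, hT'.x0, D.ev_res]
    · change g.left.appTop (T.fr.x 1) = T'.fr.x 1
      rw [hT.x1, hT'.x1, D.ev_res]
  φ a := hT.phi_nat hT' hV g a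

theorem eq_of_isT {i : Fin 3} {V : P.Etale} {h h' : D.Ov i V} {T T' : Tor p n Γ(V.left, ⊤)} (hT : D.IsT B i V h T)
    (hT' : D.IsT B i V h' T') (hV : IsAffine V.left) : T = T' := by
  refine K103.Tor.tor_ext (fun l => ?_) (hT.phi_eq hT' hV)
  fin_cases l
  · exact hT.x0.trans hT'.x0.symm
  · exact hT.x1.trans hT'.x1.symm

/-- A property of toric charts which is independent of the chart of the plane. -/
theorem ind_of_isT {V : P.Etale} (hV : IsAffine V.left) (Q : Tor p n Γ(V.left, ⊤) → Prop)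
    (hQ : ∀ T T' : Tor p n Γ(V.left, ⊤), T.φ = T'.φ → T.fr.x 0 * T'.fr.x 1 = 1 → T'.fr.x 0 = T'.fr.x 1 * T.fr.x 1 →
      (Q T ↔ Q T')) {i j : Fin 3} {h : D.Ov i V} {h' : D.Ov j V} {T T' : Tor p n Γ(V.left, ⊤)}
    (hT : D.IsT B i V h T) (hT' : D.IsT B j V h' T') : Q T ↔ Q T' := by
  have succ : ∀ {i : Fin 3} {h : D.Ov i V} {h' : D.Ov (i + 1) V} {T T' : Tor p n Γ(V.left, ⊤)}
      (_ : D.IsT B i V h T) (_ : D.IsT B (i + 1) V h' T'), Q T ↔ Q T' := by
    intro i h h' T T' hT hT'
    have e3 : i + 1 + 2 = i := P2.f3a i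
    have e2 : i + 1 + 1 = i + 2 := P2.f3b i
    refine hQ T T' (hT.phi_eq hT' hV) ?_ ?_
    · rw [hT.x0, hT'.x1, P2.ev_congr (D := D) e3, D.ev_mul i (i + 1) i V h h', D.y_self, map_one]
    · rw [hT.x1, hT'.x0, hT'.x1, P2.ev_congr (D := D) e3, P2.ev_congr (D := D) e2, D.ev_mul (i + 1) i (i + 2) V h' h]
  rcases P2.fin3 i j with rfl | rfl | rfl
  · rw [eq_of_isT hT hT' hV]
  · exact succ hT hT'
  · have e : i = i + 2 + 1 := P2.f3c i
    generalize hj : i + 2 = j at *
    subst e
    exact (succ hT' hT).symm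

end tor

section alg

variable {p n n' : ℕ} [hp : Fact p.Prime]

/-- Two-forms inject into a localization at a nonzerodivisor. -/
theorem omap2_injective {A A' : Type u} [CommRing A] [CommRing A'] [Algebra A A'] (g : A)
    (hg : g ∈ nonZeroDivisors A) [IsLocalization.Away g A'] (T : Tor p n A) (T' : Tor p n' A')
    (h : Cpt T T' (algebraMap A A')) : Function.Injective (omap2 (algebraMap A A')) := by
  have hinj : Function.Injective (algebraMap A A') :=
    IsLocalization.injective A' (M := Submonoid.powers g) (Submonoid.powers_le.mpr hg)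
  intro ω ω' e
  obtain ⟨a, rfl⟩ := T.exists_smul_vol ω
  obtain ⟨b, rfl⟩ := T.exists_smul_vol ω'
  rw [omap2_smul, omap2_smul, omap2_vol T T' _ h] at e
  rw [hinj (T'.smul_vol_inj e)]

theorem omap_surjective {A C : Type*} [CommRing A] [CommRing C] (q : A →+* C) (hq : Function.Surjective q) :
    Function.Surjective (omap q) := by
  intro x
  have hx : x ∈ Submodule.span C (Set.range (D ℤ C)) := by
    rw [KaehlerDifferential.span_range_derivation]
    trivial
  induction hx using Submodule.span_induction with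
  | mem y hy =>
    obtain ⟨c, rfl⟩ := hy
    obtain ⟨a, rfl⟩ := hq c
    exact ⟨D ℤ A a, omap_D q a⟩
  | zero => exact ⟨0, map_zero _⟩
  | add y z _ _ hy hz =>
    obtain ⟨y', rfl⟩ := hy
    obtain ⟨z', rfl⟩ := hz
    exact ⟨y' + z', map_add _ _ _⟩
  | smul c y _ hy =>
    obtain ⟨a, rfl⟩ := hq c
    obtain ⟨y', rfl⟩ := hy
    exact ⟨a • y', omap_smul q a y'⟩

theorem omap2_surjective {A C : Type*} [CommRing A] [CommRing C] (q : A →+* C) (hq : Function.Surjective q) :
    Function.Surjective (omap2 q) := by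
  intro z
  induction z using om2_induction with
  | h0 => exact ⟨0, map_zero _⟩
  | hadd y z hy hz =>
    obtain ⟨y', rfl⟩ := hy
    obtain ⟨z', rfl⟩ := hz
    exact ⟨y' + z', map_add _ _ _⟩
  | hw x y =>
    obtain ⟨x', rfl⟩ := omap_surjective q hq x
    obtain ⟨y', rfl⟩ := omap_surjective q hq y
    exact ⟨w x' y', omap2_w q x' y'⟩

end alg

end K958.Pack
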