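import Groth.Agent.EtCoh.K958.PackGeo
import Groth.Agent.EtCoh.K958.CBas
import Groth.Agent.EtCoh.K961.Tr
import Groth.Agent.EtCoh.K961.BC
import Groth.Agent.EtCoh.K762.Ind
import Mathlib.RingTheory.Flat.TorsionFree

/-!
# NODE PACK of S18107: the trace maps over an object of the basis
-/

set_option autoImplicit false

universe u

open CategoryTheory CategoryTheory.Limits AlgebraicGeometry Opposite
open KaehlerDifferential K611.Gam K611.Gam2 K611.Frame K611.Top K611.Sh K611.Seq K611.Seq2 K720.Sym K720.Tw K720.Nu K720.Lev1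
open K56.T4 K961 K961.Inv K762.Ind

noncomputable section

namespace K958.Pack

open K593.T3

section ring

variable {P X : Scheme.{u}} {r : X ⟶ P} {W : Type u} [CommRing W] {D : P2 P W} {p N : ℕ} [hp : Fact p.Prime]
  {k : Type u} [Field k] {B : WB p N k W}

attribute [local instance] algRB

theorem exists_τ (hN : 0 < N) {V : P.Etale} (hV : IsAffine V.left) {i : Fin 3} (h : D.Ov i V) (T : Tor p N Γ(V.left, ⊤))
    {g : Γ(V.left, ⊤)} (hc : IsCov r D p V g) : ∃ τ : Tn (RB r V) →+ Om2 Γ(V.left, ⊤), ∀ z, IsTau T (RB r V) z (τ z) := by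
  let _ := algC D V
  let _ := algCB r D V
  have := tower r D V
  have := smooth_cst D V hV i h
  exact exists_tau (R := W) hN T hc

theorem τ_unique (hN : 0 < N) {V : P.Etale} (hV : IsAffine V.left) {i : Fin 3} (h : D.Ov i V) {T : Tor p N Γ(V.left, ⊤)}
    {g : Γ(V.left, ⊤)} (hc : IsCov r D p V g) {z : Tn (RB r V)} {ω ω' : Om2 Γ(V.left, ⊤)}
    (h1 : IsTau T (RB r V) z ω) (h2 : IsTau T (RB r V) z ω') : ω = ω' := by
  let _ := algC D V
  let _ := algCB r D V
  have := tower r D V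
  have := smooth_cst D V hV i h
  exact IsTau.unique (R := W) hN hc h1 h2

theorem exists_TR' (hN : 0 < N) {V : P.Etale} (hV : IsAffine V.left) {i : Fin 3} (h : D.Ov i V) (T : Tor p N Γ(V.left, ⊤))
    {g : Γ(V.left, ⊤)} (hc : IsCov r D p V g) : ∃ TR : Om2 (RB r V) →+ Om2 Γ(V.left, ⊤), (∀ η, IsTr T (RB r V) η (TR η)) ∧
    (∀ η, p • TR η = 0) ∧ (∀ z ω, IsTau T (RB r V) z ω → p ^ (N - 1) • ω = TR (sy z)) ∧
    (∀ a η, TR (sb' r V a • η) = a • TR η) ∧ (Nontrivial (RB r V) → TR ≠ 0) := by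
  let _ := algC D V
  let _ := algCB r D V
  have := tower r D V
  have := smooth_cst D V hV i h
  have hc' : Cov p W Γ(V.left, ⊤) (RB r V) g := hc
  have H := exists_TR hN T hc'
  obtain ⟨TR, h1, h2, h3, h4⟩ := H
  have h5 : Nontrivial (RB r V) → TR ≠ 0 := by
    intro _
    exact TR_ne_zero hN hc' h1
  refine ⟨TR, h1, h2, h3, ?_, h5⟩
  exact h4

theorem TR_unique (hN : 0 < N) {V : P.Etale} (hV : IsAffine V.left) {i : Fin 3} (h : D.Ov i V) {T : Tor p N Γ(V.left, ⊤)}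
    {g : Γ(V.left, ⊤)} (hc : IsCov r D p V g) {z : Om2 (RB r V)} {ω ω' : Om2 Γ(V.left, ⊤)}
    (h1 : IsTr T (RB r V) z ω) (h2 : IsTr T (RB r V) z ω') : ω = ω' := by
  let _ := algC D V
  let _ := algCB r D V
  have := tower r D V
  have := smooth_cst D V hV i h
  exact IsTr.unique (R := W) hN hc h1 h2

/-- Independence of the chart of the plane. -/
theorem isTau_iff {V : P.Etale} (hV : IsAffine V.left) {i j : Fin 3} {h : D.Ov i V} {h' : D.Ov j V}
    {T T' : Tor p N Γ(V.left, ⊤)} (hT : D.IsT B i V h T) (hT' : D.IsT B j V h' T') (z : Tn (RB r V))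
    (ω : Om2 Γ(V.left, ⊤)) : IsTau T (RB r V) z ω ↔ IsTau T' (RB r V) z ω :=
  ind_of_isT hV (fun T => IsTau T (RB r V) z ω) (fun _ _ e1 e2 e3 => isTau_of_tw e1 e2 e3 z ω) hT hT'

/-- Independence of the chart of the plane. -/
theorem isTr_iff {V : P.Etale} (hV : IsAffine V.left) {i j : Fin 3} {h : D.Ov i V} {h' : D.Ov j V}
    {T T' : Tor p N Γ(V.left, ⊤)} (hT : D.IsT B i V h T) (hT' : D.IsT B j V h' T') (z : Om2 (RB r V))
    (ω : Om2 Γ(V.left, ⊤)) : IsTr T (RB r V) z ω ↔ IsTr T' (RB r V) z ω :=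
  ind_of_isT hV (fun T => IsTr T (RB r V) z ω) (fun _ _ e1 e2 e3 => isTr_of_tw e1 e2 e3 z ω) hT hT'

theorem regular_of_etale {A A₂ : Type u} [CommRing A] [CommRing A₂] (f : A →+* A₂) (hf : f.Etale) (a : A)
    (ha : a ∈ nonZeroDivisors A) : f a ∈ nonZeroDivisors A₂ := by
  let _ := f.toAlgebra
  have : Algebra.Etale A A₂ := hf
  have h1 : IsSMulRegular A₂ a := Module.Flat.isSMulRegular_of_nonZeroDivisors ha
  rw [mem_nonZeroDivisors_iff_right]
  intro x hx
  refine h1 (a₁ := x) (a₂ := 0) ?_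
  change a • x = a • 0
  rw [smul_zero, Algebra.smul_def, mul_comm]
  exact hx

theorem bas_rb [IsAffineHom r] {V V' : P.Etale} (hV : IsAffine V.left) (hV' : IsAffine V'.left) (g : V' ⟶ V)
    (m : ℕ) (β : Fin m → RB r V) (hβ : IsBas p (algebraMap Γ(V.left, ⊤) (RB r V)) β) :
    IsBas p (algebraMap Γ(V'.left, ⊤) (RB r V')) (fun i => rb r g (β i)) := by
  let _ : Algebra Γ(V.left, ⊤) Γ(V'.left, ⊤) := g.left.appTop.hom.toAlgebra
  let _ : Algebra (RB r V) (RB r V') := (rb r g).toAlgebra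
  let _ : Algebra Γ(V.left, ⊤) (RB r V') := ((sb' r V').comp g.left.appTop.hom).toAlgebra
  have : IsScalarTower Γ(V.left, ⊤) Γ(V'.left, ⊤) (RB r V') := IsScalarTower.of_algebraMap_eq' rfl
  have : IsScalarTower Γ(V.left, ⊤) (RB r V) (RB r V') := IsScalarTower.of_algebraMap_eq' (rb_sb r g).symm
  have : Algebra.IsPushout Γ(V.left, ⊤) Γ(V'.left, ⊤) (RB r V) (RB r V') :=
    CommRingCat.isPushout_iff_isPushout.mp (isPushout_rb r hV hV' g)
  exact IsBas.pushout hβ

/-- Naturality of the symbol trace. -/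
theorem τ_nat [IsAffineHom r] (hN : 0 < N) (hB : B.HasTor) {V V' : P.Etale} (hV : IsAffine V.left) (hV' : IsAffine V'.left)
    {i j : Fin 3} {h : D.Ov i V} {h' : D.Ov j V'} {T : Tor p N Γ(V.left, ⊤)} {T' : Tor p N Γ(V'.left, ⊤)}
    (hT : D.IsT B i V h T) (hT' : D.IsT B j V' h' T') {a : Γ(V.left, ⊤)} (ha : IsCov r D p V a)
    {a' : Γ(V'.left, ⊤)} (ha' : IsCov r D p V' a') (g : V' ⟶ V) {z : Tn (RB r V)} {ω : Om2 Γ(V.left, ⊤)}
    (hz : IsTau T (RB r V) z ω) : IsTau T' (RB r V') (tmap (rb r g) z) (omap2 g.left.appTop.hom ω) := by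
  obtain ⟨T₂, hT₂⟩ := P2.exists_isT hB i V' (h.of_hom g) hV'
  rw [← isTau_iff hV' hT₂ hT']
  let _ := algC D V
  let _ := algCB r D V
  have := tower r D V
  have := smooth_cst D V hV i h
  let _ := algC D V'
  let _ := algCB r D V'
  have := tower r D V'
  have := smooth_cst D V' hV' j h'
  exact IsTau.nat (R := W) hN ha ha' (cpt_of_isT hT hT₂ hV g) (regular_of_etale _ (etale_appTop hV hV' g))
    (fun b => congrArg (fun f : Γ(V.left, ⊤) →+* RB r V' => f b) (rb_sb r g)) (bas_rb hV hV' g) hz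

/-- Naturality of the trace. -/
theorem TR_nat [IsAffineHom r] (hN : 0 < N) (hB : B.HasTor) {V V' : P.Etale} (hV : IsAffine V.left) (hV' : IsAffine V'.left)
    {i j : Fin 3} {h : D.Ov i V} {h' : D.Ov j V'} {T : Tor p N Γ(V.left, ⊤)} {T' : Tor p N Γ(V'.left, ⊤)}
    (hT : D.IsT B i V h T) (hT' : D.IsT B j V' h' T') {a : Γ(V.left, ⊤)} (ha : IsCov r D p V a)
    {a' : Γ(V'.left, ⊤)} (ha' : IsCov r D p V' a') (g : V' ⟶ V) {z : Om2 (RB r V)} {ω : Om2 Γ(V.left, ⊤)}
    (hz : IsTr T (RB r V) z ω) : IsTr T' (RB r V') (omap2 (rb r g) z) (omap2 g.left.appTop.hom ω) := by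
  obtain ⟨T₂, hT₂⟩ := P2.exists_isT hB i V' (h.of_hom g) hV'
  rw [← isTr_iff hV' hT₂ hT']
  let _ := algC D V
  let _ := algCB r D V
  have := tower r D V
  have := smooth_cst D V hV i h
  let _ := algC D V'
  let _ := algCB r D V'
  have := tower r D V'
  have := smooth_cst D V' hV' j h'
  exact IsTr.nat (R := W) hN ha ha' (cpt_of_isT hT hT₂ hV g) (regular_of_etale _ (etale_appTop hV hV' g))
    (fun b => congrArg (fun f : Γ(V.left, ⊤) →+* RB r V' => f b) (rb_sb r g)) (bas_rb hV hV' g) hz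

end ring

end K958.Pack
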