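import Groth.Agent.EtCoh.K958.PackRing
import Groth.Agent.EtCoh.K759.HKer
import Groth.Agent.EtCoh.K956.HCart

/-!
# NODE PACK of S18107: the Cartier operator and divisible symbols
-/

set_option autoImplicit false

universe u

open CategoryTheory CategoryTheory.Limits AlgebraicGeometry Opposite
open KaehlerDifferential K611.Gam K611.Gam2 K611.Frame K611.Top K611.Sh K611.Seq K611.Seq2 K720.Sym K720.Tw K720.Nu K720.Lev1
open K56.T4 K961 K961.Inv K762.Ind K759.HKer K956.HCart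

noncomputable section

namespace K958.Pack

variable {X : Scheme.{u}} {p N : ℕ} [hp : Fact p.Prime]

/-- The trace commutes with the Cartier operators. -/
theorem isTr_S' (h : (p : Γ(X, ⊤)) = 0) (U : X.Etale) (hU : IsAffine U.left) {A : Type u} [CommRing A]
    {T : K56.T4.Tor p N A} [Algebra A Γ(U.left, ⊤)] {ζ η : Om2 Γ(U.left, ⊤)} {ω : Om2 A}
    (hz : ap ((cl2N p).sh h) U (un Om2F _ ζ) = ap ((gam2N p).sh h) U (un Om2F _ η))
    (hζ : IsTr T Γ(U.left, ⊤) ζ ω) : IsTr T Γ(U.left, ⊤) η (T.S ω) := by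
  obtain ⟨c, e, he, h1⟩ := hζ
  obtain ⟨e', he'⟩ := K958.Pack.omap2_surjective c.q c.hq (omap2 (algebraMap Γ(U.left, ⊤) c.B') η)
  refine ⟨c, e', he', ?_⟩
  have h2 := K961.S_nat T c.T' (algebraMap A c.A') c.cpt ω
  have h3 := hcart h U hU c ζ η hz e e' he he'
  exact h2.symm.trans ((congrArg c.T'.S h1).trans h3)

theorem isTau_ker' (h : (p : Γ(X, ⊤)) = 0) (U : X.Etale) (hU : IsAffine U.left) {A : Type u} [CommRing A]
    {T : K56.T4.Tor p N A} [Algebra A Γ(U.left, ⊤)] (n : ℕ) (hn : n ≤ N) {z : Tn Γ(U.left, ⊤)} {ω : Om2 A}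
    (hz : un (QnF (p ^ n)) U (cm (A := TnF) z) = 0) (hτ : IsTau T Γ(U.left, ⊤) z ω) :
    p ^ (N - n) • ω = 0 := by
  obtain ⟨c, hc⟩ := hτ
  apply omap2_injective c.g c.hg T c.T' c.cpt
  have h3 := hker h U hU c n hn z hz
  rw [map_nsmul, hc, map_zero]
  exact h3

end K958.Pack
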